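import Groth.Agent.RedHomogTop.Components
import Groth.Agent.GrpSchLib.FieldDim
import Groth.Agent.GrpSchLib.ArtinTop

/-!
# The dimension of the components of a homogeneous space
-/

universe u

open CategoryTheory AlgebraicGeometry MonoidalCategory CartesianMonoidalCategory MonObj GrpObj
open Limits TopologicalSpace
open scoped CategoryTheory.Obj
open Groth.Agent.GrpSchLib

namespace Groth.Agent.RedHomogTop

set_option backward.isDefEq.respectTransparency.types false

theorem surjective_baseChange {S T : Scheme.{u}} (f : T ⟶ S) {G X : Over S} [GrpObj G] (a : AlgGrp.Action G X)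
    (hΦ : Surjective (lift a.act (snd G X)).left) :
    Surjective (lift (a.bc f).act (snd ((Over.pullback f).obj G) ((Over.pullback f).obj X))).left := by
  let F := Over.pullback f
  have e : lift (a.bc f).act (snd (F.obj G) (F.obj X)) ≫ Functor.LaxMonoidal.μ F X X =
      Functor.LaxMonoidal.μ F G X ≫ F.map (lift a.act (snd G X)) := by
    rw [← cancel_mono (Functor.Monoidal.μIso F X X).inv, Category.assoc]
    simp only [Functor.Monoidal.μIso_inv, Functor.Monoidal.μ_δ, Category.comp_id, Category.id_comp, Category.assoc]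
    erw [Category.comp_id]
    apply CartesianMonoidalCategory.hom_ext
    · simp only [lift_fst, Category.assoc, Functor.OplaxMonoidal.δ_fst, ← Functor.map_comp]
      erw [Functor.OplaxMonoidal.δ_fst]
      rw [← Functor.map_comp, lift_fst]
      rfl
    · simp only [lift_snd, Category.assoc, Functor.OplaxMonoidal.δ_snd, ← Functor.map_comp]
      erw [Functor.OplaxMonoidal.δ_snd]
      rw [← Functor.map_comp, lift_snd, Functor.Monoidal.μ_snd]
  have : Surjective (F.map (lift a.act (snd G X))).left :=
    MorphismProperty.baseChange_map (P := @Surjective) _ (lift a.act (snd G X)) hΦ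
  have h1 : IsIso (Functor.LaxMonoidal.μ F G X).left := (Over.forget _).map_isIso _
  have h2 : IsIso (Functor.LaxMonoidal.μ F X X).left := (Over.forget _).map_isIso _
  have h3 : Surjective ((lift (a.bc f).act (snd (F.obj G) (F.obj X))).left ≫ (Functor.LaxMonoidal.μ F X X).left) := by
    rw [← Over.comp_left, e, Over.comp_left]
    infer_instance
  exact (MorphismProperty.cancel_right_of_respectsIso (P := @Surjective) _ _).mp h3

variable {k : Type u} [Field k] {G X : Over (Spec (CommRingCat.of k))} [GrpObj G] [LocallyOfFiniteType G.hom]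
  [LocallyOfFiniteType X.hom] (a : AlgGrp.Action G X)

omit [GrpObj G] [LocallyOfFiniteType G.hom] [LocallyOfFiniteType X.hom] in
theorem exists_rational_of_closed [IsAlgClosed k] {Y : Over (Spec (CommRingCat.of k))} [LocallyOfFiniteType Y.hom]
    (y : Y.left) (hy : y ∈ closedPoints Y.left) :
    ∃ y' : 𝟙_ _ ⟶ Y, y'.left (IsLocalRing.closedPoint k) = y :=
  ⟨Over.homMk _ ((pointEquivClosedPoint Y.hom).symm ⟨y, hy⟩).2, by
    simp only [pointEquivClosedPoint]
    exact pointOfClosedPoint_apply _ _ _ _⟩

theorem height_isMaxPt_eq_of_isAlgClosed [IsAlgClosed k] (hΦ : Surjective (lift a.act (snd G X)).left)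
    {m m' : X.left} (hm : IsMaxPt m) (hm' : IsMaxPt m') : Order.height m = Order.height m' := by
  have := LocallyOfFiniteType.jacobsonSpace X.hom
  have := LocallyOfFiniteType.jacobsonSpace G.hom
  obtain ⟨g, hg, hge⟩ := exists_isMaxPt (η[G].left (IsLocalRing.closedPoint k))
  obtain ⟨p, hp, hpc⟩ := nonempty_inter_closedPoints (X := X.left) (Z := closure {m})
    ⟨m, subset_closure rfl⟩ isClosed_closure.isLocallyClosed
  obtain ⟨q, hq, hqc⟩ := nonempty_inter_closedPoints (X := X.left) (Z := closure {m'})
    ⟨m', subset_closure rfl⟩ isClosed_closure.isLocallyClosed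
  obtain ⟨x, hx⟩ := exists_rational_of_closed p hpc
  obtain ⟨h₀, hh₀⟩ := exists_orbit_eq a hΦ x q
  obtain ⟨h, hh, hhc⟩ := nonempty_inter_closedPoints (X := G.left) (Z := (a.orbitMap x).left ⁻¹' {q})
    ⟨h₀, hh₀⟩ ((mem_closedPoints_iff.mp hqc).preimage (a.orbitMap x).left.continuous).isLocallyClosed
  obtain ⟨h', hh'⟩ := exists_rational_of_closed h hhc
  let f := (transIso a h').hom.left
  have hfp : f p = q := by
    have e : η[G] ≫ ((toUnit G ≫ h') * 𝟙 G) = h' := by
      rw [MonObj.comp_mul, ← Category.assoc, toUnit_unique (η[G] ≫ toUnit G) (𝟙 _), Category.id_comp,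
        Category.comp_id, MonObj.one_eq_one, _root_.mul_one]
    have e' := transIso_hom_apply a h' x (η[G].left (IsLocalRing.closedPoint k))
    rw [orbit_one, hx, ← left_comp_apply η[G], e, hh'] at e'
    exact e'.trans hh
  have hmax : IsMaxPt (f m) := isMaxPt_homeo f hm
  have hfm : f m ⤳ q := hfp ▸ (specializes_iff_mem_closure.mpr hp).map f.continuous
  rw [height_apply_of_isIntegralHom f m,
    hmax.eq (uniComp a hg hge hΦ) hm' hfm (specializes_iff_mem_closure.mpr hq)]

theorem height_isMaxPt_eq (hΦ : Surjective (lift a.act (snd G X)).left)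
    {m m' : X.left} (hm : IsMaxPt m) (hm' : IsMaxPt m') : Order.height m = Order.height m' := by
  let K := AlgebraicClosure k
  let φ := algebraMap k K
  have : LocallyOfFiniteType (bc G φ).hom := inferInstanceAs (LocallyOfFiniteType (pullback.snd G.hom _))
  have : LocallyOfFiniteType (bc X φ).hom := inferInstanceAs (LocallyOfFiniteType (pullback.snd X.hom _))
  have : IsIntegralHom (Spec.map (CommRingCat.ofHom φ)) :=
    (IsIntegralHom.SpecMap_iff).mpr (algebraMap_isIntegral_iff.mpr inferInstance)
  have : Surjective (Spec.map (CommRingCat.ofHom φ)) := surjective_spec_map_field _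
  have key : ∀ n : X.left, IsMaxPt n → ∃ c, IsMaxPt c ∧ bcProj X φ c = n := fun n hn => by
    obtain ⟨n', hn'⟩ := (bcProj X φ).surjective n
    obtain ⟨c, hc, hcn⟩ := exists_isMaxPt n'
    exact ⟨c, hc, hn _ (hn' ▸ hcn.map (bcProj X φ).continuous)⟩
  obtain ⟨c, hc, rfl⟩ := key m hm
  obtain ⟨c', hc', rfl⟩ := key m' hm'
  rw [← height_apply_of_isIntegralHom (bcProj X φ) c, ← height_apply_of_isIntegralHom (bcProj X φ) c']
  exact height_isMaxPt_eq_of_isAlgClosed (abc a φ) (surjective_bc a hΦ φ) hc hc'

theorem dim_connectedComponent_eq (hΦ : Surjective (lift a.act (snd G X)).left) (x y : X.left) :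
    topologicalKrullDim (connectedComponent x) = topologicalKrullDim (connectedComponent y) := by
  have : IsLocallyNoetherian X.left := LocallyOfFiniteType.isLocallyNoetherian X.hom
  obtain ⟨g, hg, hge⟩ := exists_isMaxPt (η[G].left (IsLocalRing.closedPoint k))
  obtain ⟨m, hm, hmx⟩ := exists_isMaxPt x
  obtain ⟨m', hm', hmy⟩ := exists_isMaxPt y
  rw [connectedComponent_eq a hg hge hΦ hm hmx, connectedComponent_eq a hg hge hΦ hm' hmy,
    VarDim.topologicalKrullDim_closure_singleton X.hom, VarDim.topologicalKrullDim_closure_singleton X.hom,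
    ← VarDim.height_eq_deg X.hom, ← VarDim.height_eq_deg X.hom, height_isMaxPt_eq a hΦ hm hm']

end Groth.Agent.RedHomogTop
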