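import Groth.Agent.RedHomogTop.Components

/-!
# Consequences on irreducible components
-/

universe u

open CategoryTheory AlgebraicGeometry MonoidalCategory CartesianMonoidalCategory MonObj GrpObj
open Limits TopologicalSpace
open scoped CategoryTheory.Obj
open Groth.Agent.GrpSchLib

namespace Groth.Agent.RedHomogTop

theorem component_eq_closure {Y : Scheme.{u}} {C : Set Y} (hC : C ∈ irreducibleComponents (Y : Type u)) :
    ∃ m, IsMaxPt m ∧ C = closure {m} := by
  have hgen := hC.1.isGenericPoint_genericPoint (isClosed_of_mem_irreducibleComponents C hC)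
  exact ⟨_, fun d => Groth.Agent.FDescent.eq_of_specializes_of_mem hC hgen, hgen.def.symm⟩

theorem closure_mem_components {Y : Scheme.{u}} {m : Y} (hm : IsMaxPt m) :
    closure {m} ∈ irreducibleComponents (Y : Type u) := by
  refine ⟨isIrreducible_singleton.closure, fun Z hZ hmZ => ?_⟩
  have hgen := hZ.closure.isGenericPoint_genericPoint isClosed_closure
  have : hZ.closure.genericPoint = m := hm _ (hgen.specializes (subset_closure (hmZ (subset_closure rfl))))
  intro z hz
  rw [← this]
  exact (hgen.specializes (subset_closure hz)).mem_closure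

theorem neutral_component {k : Type u} [Field k] {G : Over (Spec (CommRingCat.of k))} [GrpObj G]
    (pt : ↥(𝟙_ (Over (Spec (CommRingCat.of k)))).left) {C0 : Set G.left}
    (hC0 : C0 ∈ irreducibleComponents (G.left : Type u)) (he : η[G].left.base pt ∈ C0) :
    ∃ g, IsMaxPt g ∧ g ⤳ η[G].left (IsLocalRing.closedPoint k) ∧ C0 = closure {g} := by
  obtain ⟨g, hg, rfl⟩ := component_eq_closure hC0
  refine ⟨g, hg, specializes_iff_mem_closure.mpr ?_, rfl⟩
  rwa [@Subsingleton.elim ↥(Spec (CommRingCat.of k)) inferInstance (IsLocalRing.closedPoint k) pt]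

theorem exists_neutral {k : Type u} [Field k] (G : Over (Spec (CommRingCat.of k))) [GrpObj G] :
    ∃ g, IsMaxPt g ∧ g ⤳ η[G].left (IsLocalRing.closedPoint k) :=
  exists_isMaxPt _

variable {k : Type u} [Field k] {G X : Over (Spec (CommRingCat.of k))} [GrpObj G] (a : AlgGrp.Action G X)
  (hΦ : Surjective (lift a.act (snd G X)).left)
include a hΦ

theorem existsUnique_component (z : X.left) : ∃! C, C ∈ irreducibleComponents (X.left : Type u) ∧ z ∈ C := by
  obtain ⟨g, hg, hge⟩ := exists_neutral G
  obtain ⟨m, hm, hmz⟩ := exists_isMaxPt z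
  refine ⟨closure {m}, ⟨closure_mem_components hm, hmz.mem_closure⟩, fun C hC => ?_⟩
  obtain ⟨m', hm', rfl⟩ := component_eq_closure hC.1
  rw [hm'.eq (uniComp a hg hge hΦ) hm (specializes_iff_mem_closure.mpr hC.2) hmz]

theorem isPreirreducible_connectedComponent [QuasiSeparatedSpace X.left] (x : X.left) :
    IsPreirreducible (connectedComponent x) := by
  obtain ⟨g, hg, hge⟩ := exists_neutral G
  obtain ⟨m, hm, hmx⟩ := exists_isMaxPt x
  rw [connectedComponent_eq a hg hge hΦ hm hmx]
  exact isIrreducible_singleton.closure.isPreirreducible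

omit a hΦ in
theorem hull_eq_sUnion (U : X.left.Opens) : hull (U : Set X.left) =
    ⋃₀ {Z : Set X.left | Z ∈ irreducibleComponents (X.left : Type u) ∧ ∃ ξ ∈ U, closure {ξ} = Z} := by
  ext x
  constructor
  · rintro ⟨c, hc, hcx⟩
    obtain ⟨m, hm, hmc⟩ := exists_isMaxPt c
    exact ⟨closure {m}, ⟨closure_mem_components hm, m, hmc.mem_open U.2 hc, rfl⟩, (hmc.trans hcx).mem_closure⟩
  · rintro ⟨Z, ⟨-, ξ, hξ, rfl⟩, hx⟩
    exact ⟨ξ, hξ, specializes_iff_mem_closure.mpr hx⟩

omit a hΦ in
theorem hull_eq_closure (U : X.left.Opens) (hU : IsRetrocompact (U : Set X.left)) :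
    hull (U : Set X.left) = closure (U : Set X.left) := by
  refine Set.Subset.antisymm ?_ (closure_minimal (fun c hc => ⟨c, hc, specializes_rfl⟩) ?_)
  · rintro x ⟨c, hc, hcx⟩
    exact hcx.mem_closed isClosed_closure (subset_closure hc)
  · exact isClosed_hull (X := X) U.2 fun V hV => hU hV.isCompact V.2

end Groth.Agent.RedHomogTop
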