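import Groth.Agent.GrpSchLib.FieldAllComp
import Groth.Agent.GrpSchLib.Action
import Groth.Prelude.Def_ActBC

/-!
# The topology of homogeneous spaces over a field, without finiteness hypotheses

For an action of a group scheme `G` over a field on a scheme `X` with `(g, x) ↦ (g x, x)` surjective, every point of
`X` has a single maximal generalisation; it is reached from the point by the component of the unit of `G`.
-/

universe u

open CategoryTheory AlgebraicGeometry MonoidalCategory CartesianMonoidalCategory MonObj GrpObj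
open Limits TopologicalSpace
open scoped CategoryTheory.Obj
open Groth.Agent.GrpSchLib

namespace Groth.Agent.RedHomogTop

set_option backward.isDefEq.respectTransparency.types false

theorem IsMaxPt.exists_over {X Y : Type*} [TopologicalSpace X] [TopologicalSpace Y] [T0Space X] [QuasiSober X]
    {f : X → Y} (hfc : Continuous f) (hf : GeneralizingMap f) {a : X} {m : Y} (hm : IsMaxPt m) (h : m ⤳ f a) :
    ∃ d, IsMaxPt d ∧ d ⤳ a ∧ f d = m := by
  obtain ⟨a', ha', hfa⟩ := hf h
  obtain ⟨d, hd, hda⟩ := exists_isMaxPt a'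
  exact ⟨d, hd, hda.trans ha', hm _ (hfa ▸ hda.map hfc)⟩

section Fibre

variable {L : Type u} [Field L] [IsAlgClosed L] {L' : Type u} [Field L'] (φ : L →+* L')

theorem isIrreducible_preimage_bcProj (Y : Over (Spec (CommRingCat.of L))) (y : Y.left) :
    IsIrreducible (bcProj Y φ ⁻¹' {y}) := by
  haveI : GeometricallyIrreducible (Spec.map (CommRingCat.ofHom φ)) := geometricallyIrreducible_of_isAlgClosed _
  haveI : GeometricallyIrreducible (bcProj Y φ) := inferInstanceAs (GeometricallyIrreducible (pullback.fst _ _))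
  haveI : UniversallyOpen (bcProj Y φ) := inferInstanceAs (UniversallyOpen (pullback.fst _ _))
  exact (bcProj Y φ).isIrreducible_preimage (bcProj Y φ).isOpenMap isIrreducible_singleton

/-- Above a maximal point there is one maximal point. -/
theorem eq_of_proj_eq (Y : Over (Spec (CommRingCat.of L))) {d d' : (bc Y φ).left} (hd : IsMaxPt d)
    (hd' : IsMaxPt d') (h : bcProj Y φ d = bcProj Y φ d') : d = d' := by
  have hirr := isIrreducible_preimage_bcProj φ Y (bcProj Y φ d)
  have hgen := hirr.closure.isGenericPoint_genericPoint isClosed_closure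
  have h1 : hirr.closure.genericPoint = d := hd _ (hgen.specializes (subset_closure rfl))
  have h2 : hirr.closure.genericPoint = d' := hd' _ (hgen.specializes (subset_closure h.symm))
  exact h1.symm.trans h2

end Fibre

variable {k : Type u} [Field k] {G X : Over (Spec (CommRingCat.of k))} [GrpObj G] (a : AlgGrp.Action G X)

theorem map_apply {Y Y' : Over (Spec (CommRingCat.of k))} (f : Y ⟶ Y') {L : Type u} [Field L] (φ : k →+* L)
    (z : (bc Y φ).left) :
    bcProj Y' φ (((Over.pullback (Spec.map (CommRingCat.ofHom φ))).map f).left z) = f.left (bcProj Y φ z) := by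
  have h : ((Over.pullback (Spec.map (CommRingCat.ofHom φ))).map f).left ≫ bcProj Y' φ = bcProj Y φ ≫ f.left :=
    pullback.lift_fst _ _ _
  rw [← Scheme.Hom.comp_apply, h, Scheme.Hom.comp_apply]

/-- The base-changed action. -/
noncomputable abbrev abc {L : Type u} [Field L] (φ : k →+* L) : AlgGrp.Action (bc G φ) (bc X φ) :=
  a.bc (Spec.map (CommRingCat.ofHom φ))

/-- The projection from the product of the base changes. -/
noncomputable def projPair {L : Type u} [Field L] (φ : k →+* L) : (bc G φ ⊗ bc X φ).left ⟶ (G ⊗ X).left :=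
  (Functor.LaxMonoidal.μ (Over.pullback (Spec.map (CommRingCat.ofHom φ))) G X).left ≫ bcProj (G ⊗ X) φ

theorem fst_projPair {L : Type u} [Field L] (φ : k →+* L) (z : (bc G φ ⊗ bc X φ).left) :
    (fst G X).left (projPair (G := G) (X := X) φ z) = bcProj G φ ((fst (bc G φ) (bc X φ)).left z) := by
  rw [projPair, Scheme.Hom.comp_apply, ← map_apply, ← left_comp_apply, Functor.Monoidal.μ_fst]

theorem snd_projPair {L : Type u} [Field L] (φ : k →+* L) (z : (bc G φ ⊗ bc X φ).left) :
    (snd G X).left (projPair (G := G) (X := X) φ z) = bcProj X φ ((snd (bc G φ) (bc X φ)).left z) := by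
  rw [projPair, Scheme.Hom.comp_apply, ← map_apply, ← left_comp_apply, Functor.Monoidal.μ_snd]

theorem act_projPair {L : Type u} [Field L] (φ : k →+* L) (z : (bc G φ ⊗ bc X φ).left) :
    a.act.left (projPair (G := G) (X := X) φ z) = bcProj X φ ((abc a φ).act.left z) := by
  rw [projPair, Scheme.Hom.comp_apply, ← map_apply, ← left_comp_apply]
  rfl

theorem surjective_bc (hΦ : Surjective (lift a.act (snd G X)).left) {L : Type u} [Field L] (φ : k →+* L) :
    Surjective (lift (abc a φ).act (snd (bc G φ) (bc X φ))).left := by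
  let F := Over.pullback (Spec.map (CommRingCat.ofHom φ))
  have e : lift (abc a φ).act (snd (F.obj G) (F.obj X)) ≫ Functor.LaxMonoidal.μ F X X =
      Functor.LaxMonoidal.μ F G X ≫ F.map (lift a.act (snd G X)) := by
    rw [← cancel_mono (Functor.Monoidal.μIso F X X).inv, Category.assoc]
    simp only [Functor.Monoidal.μIso_inv, Functor.Monoidal.μ_δ, Category.comp_id, Category.id_comp, Category.assoc]
    erw [Category.comp_id]
    apply CartesianMonoidalCategory.hom_ext
    · simp only [lift_fst, Category.assoc, Functor.OplaxMonoidal.δ_fst, ← Functor.map_comp]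
      erw [Functor.OplaxMonoidal.δ_fst]
      rw [← Functor.map_comp, lift_fst]
      rfl
    · simp only [lift_snd, Category.assoc, Functor.OplaxMonoidal.δ_snd, ← Functor.map_comp]
      erw [Functor.OplaxMonoidal.δ_snd]
      rw [← Functor.map_comp, lift_snd, Functor.Monoidal.μ_snd]
  have : Surjective (F.map (lift a.act (snd G X))).left :=
    MorphismProperty.baseChange_map (P := @Surjective) _ (lift a.act (snd G X)) hΦ
  have h1 : IsIso (Functor.LaxMonoidal.μ F G X).left := (Over.forget _).map_isIso _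
  have h2 : IsIso (Functor.LaxMonoidal.μ F X X).left := (Over.forget _).map_isIso _
  have h3 : Surjective ((lift (abc a φ).act (snd (F.obj G) (F.obj X))).left ≫ (Functor.LaxMonoidal.μ F X X).left) := by
    rw [← Over.comp_left, e, Over.comp_left]
    infer_instance
  exact (MorphismProperty.cancel_right_of_respectsIso (P := @Surjective) _ _).mp h3

/-- The point of `G ⊗ X` over a point of `G` and a rational point of `X`. -/
noncomputable def slice (x : 𝟙_ _ ⟶ X) : G ⟶ G ⊗ X := lift (𝟙 G) (toUnit G ≫ x)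

theorem snd_slice (x : 𝟙_ _ ⟶ X) (g : G.left) :
    (snd G X).left ((slice (G := G) x).left g) = x.left (IsLocalRing.closedPoint k) := by
  rw [← left_comp_apply, slice, lift_snd, Over.comp_left, Scheme.Hom.comp_apply]
  exact congrArg x.left (@Subsingleton.elim ↥(Spec (CommRingCat.of k)) inferInstance _ _)

theorem fst_slice (x : 𝟙_ _ ⟶ X) (g : G.left) : (fst G X).left ((slice (G := G) x).left g) = g := by
  rw [← left_comp_apply, slice, lift_fst]; rfl

theorem act_slice (x : 𝟙_ _ ⟶ X) (g : G.left) :
    a.act.left ((slice (G := G) x).left g) = (a.orbitMap x).left g := by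
  rw [← left_comp_apply]; rfl

theorem orbit_one (x : 𝟙_ _ ⟶ X) :
    (a.orbitMap x).left (η[G].left (IsLocalRing.closedPoint k)) = x.left (IsLocalRing.closedPoint k) := by
  have h : η[G] ≫ a.orbitMap x = x := by
    rw [AlgGrp.Action.orbitMap, ← Category.assoc, comp_lift, Category.comp_id, ← Category.assoc,
      toUnit_unique (η[G] ≫ toUnit G) (𝟙 _), Category.id_comp, MonObj.one_eq_one, act_one]
  rw [← left_comp_apply, h]

/-- Translation by a rational point. -/
noncomputable def trans (g : 𝟙_ _ ⟶ G) : X ⟶ X := lift (toUnit X ≫ g) (𝟙 X) ≫ a.act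

theorem trans_trans (g h : 𝟙_ _ ⟶ G) : trans a g ≫ trans a h = trans a (h * g) := by
  simp only [trans, ← Category.assoc, comp_lift, Category.comp_id]
  rw [show (lift (toUnit X ≫ g) (𝟙 X) ≫ a.act) ≫ toUnit X = toUnit X from toUnit_unique _ _, act_mul,
    ← MonObj.comp_mul]

theorem trans_one : trans a (1 : 𝟙_ _ ⟶ G) = 𝟙 X := by
  rw [trans, MonObj.comp_one, act_one]

/-- Translation by a rational point as an isomorphism. -/
noncomputable def transIso (g : 𝟙_ _ ⟶ G) : X ≅ X where
  hom := trans a g
  inv := trans a g⁻¹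
  hom_inv_id := by rw [trans_trans, inv_mul_cancel, trans_one]
  inv_hom_id := by rw [trans_trans, mul_inv_cancel, trans_one]

theorem transIso_hom_apply (g : 𝟙_ _ ⟶ G) (x : 𝟙_ _ ⟶ X) (h : G.left) :
    (transIso a g).hom.left ((a.orbitMap x).left h) =
      (a.orbitMap x).left (((toUnit G ≫ g) * 𝟙 G : G ⟶ G).left h) := by
  have e : a.orbitMap x ≫ (transIso a g).hom = ((toUnit G ≫ g) * 𝟙 G) ≫ a.orbitMap x := by
    simp only [transIso, trans, AlgGrp.Action.orbitMap, ← Category.assoc, comp_lift, Category.comp_id]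
    rw [show (lift (𝟙 G) (toUnit G ≫ x) ≫ a.act) ≫ toUnit X = toUnit G from toUnit_unique _ _, act_mul,
      show ((toUnit G ≫ g) * 𝟙 G) ≫ toUnit G = toUnit G from toUnit_unique _ _]
  rw [← left_comp_apply, e, left_comp_apply]

instance (g : 𝟙_ _ ⟶ G) : IsIso (transIso a g).hom.left := ((Over.forget _).mapIso (transIso a g)).isIso_hom

theorem isMaxPt_homeo {Y Z : Scheme.{u}} (f : Y ⟶ Z) [IsIso f] {y : Y} (h : IsMaxPt y) : IsMaxPt (f y) :=
  h.map (Flat.generalizingMap f)

theorem exists_orbit_eq (hΦ : Surjective (lift a.act (snd G X)).left) (x : 𝟙_ _ ⟶ X) (y : X.left) :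
    ∃ g, (a.orbitMap x).left g = y := by
  let S₀ : X ⟶ X ⊗ X := lift (𝟙 X) (toUnit X ≫ x)
  obtain ⟨w, hw⟩ := (lift a.act (snd G X)).left.surjective (S₀.left y)
  obtain ⟨z, hz1, hz2⟩ := Scheme.Pullback.exists_preimage_pullback (f := (lift a.act (snd G X)).left) (g := S₀.left)
    w y hw
  let T : Over (Spec (CommRingCat.of k)) :=
    Over.mk (pullback.snd (lift a.act (snd G X)).left S₀.left ≫ X.hom)
  let p₂ : T ⟶ X := Over.homMk (pullback.snd _ _) rfl
  let p₁ : T ⟶ G ⊗ X := Over.homMk (pullback.fst _ _) (by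
    rw [← Over.w (lift a.act (snd G X)), pullback.condition_assoc, Over.w S₀]
    rfl)
  have e : p₁ ≫ lift a.act (snd G X) = p₂ ≫ S₀ := Over.OverMorphism.ext pullback.condition
  have e1 := congrArg (· ≫ fst X X) e
  have e2 := congrArg (· ≫ snd X X) e
  simp only [Category.assoc, S₀, lift_fst, lift_snd, Category.comp_id] at e1 e2
  have e3 : p₁ = (p₁ ≫ fst G X) ≫ slice x := by
    apply CartesianMonoidalCategory.hom_ext
    · simp [slice]
    · simp only [slice, Category.assoc, lift_snd, e2]
      simp only [← Category.assoc]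
      congr 1
      exact toUnit_unique _ _
  refine ⟨(p₁ ≫ fst G X).left z, ?_⟩
  rw [← act_slice, ← left_comp_apply (p₁ ≫ fst G X) (slice x), ← e3, ← left_comp_apply, e1]
  exact hz2

theorem exists_bc_rational (x : 𝟙_ _ ⟶ X) {L : Type u} [Field L] (φ : k →+* L) :
    ∃ x' : 𝟙_ (Over (Spec (CommRingCat.of L))) ⟶ bc X φ,
      x'.left ≫ bcProj X φ = Spec.map (CommRingCat.ofHom φ) ≫ x.left := by
  have hw : (Spec.map (CommRingCat.ofHom φ) ≫ x.left) ≫ X.hom = 𝟙 _ ≫ Spec.map (CommRingCat.ofHom φ) := by
    rw [Category.assoc, Category.id_comp, Over.w x]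
    exact Category.comp_id _
  exact ⟨Over.homMk (pullback.lift (Spec.map (CommRingCat.ofHom φ) ≫ x.left) (𝟙 _) hw) (pullback.lift_snd _ _ hw),
    pullback.lift_fst _ _ hw⟩

theorem proj_orbit_hom (x : 𝟙_ _ ⟶ X) {L : Type u} [Field L] (φ : k →+* L)
    (x' : 𝟙_ (Over (Spec (CommRingCat.of L))) ⟶ bc X φ)
    (hx : x'.left ≫ bcProj X φ = Spec.map (CommRingCat.ofHom φ) ≫ x.left) :
    ((abc a φ).orbitMap x').left ≫ bcProj X φ = bcProj G φ ≫ (a.orbitMap x).left := by
  have h0 : ((abc a φ).orbitMap x').left ≫ bcProj X φ =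
      (slice (G := bc G φ) x').left ≫ projPair φ ≫ a.act.left := by
    rw [AlgGrp.Action.orbitMap, Over.comp_left, Category.assoc]
    congr 1
    rw [abc, AlgGrp.Action.bc_act, Over.comp_left, Category.assoc, projPair, Category.assoc]
    congr 1
    exact pullback.lift_fst _ _ _
  rw [h0, AlgGrp.Action.orbitMap, Over.comp_left, ← Category.assoc, ← Category.assoc]
  congr 1
  have h1 : (slice (G := bc G φ) x').left ≫ (projPair φ ≫ (fst G X).left) =
      bcProj G φ ≫ (slice (G := G) x).left ≫ (fst G X).left := by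
    simp only [projPair, Category.assoc, ← Over.comp_left, slice, lift_fst, Over.id_left, Category.comp_id]
    rw [show bcProj (G ⊗ X) φ ≫ (fst G X).left =
      ((Over.pullback (Spec.map (CommRingCat.ofHom φ))).map (fst G X)).left ≫ bcProj G φ from
        (pullback.lift_fst _ _ _).symm]
    rw [← Over.comp_left_assoc, ← Over.comp_left_assoc, Category.assoc, Functor.Monoidal.μ_fst, lift_fst]
    exact Category.id_comp _
  have h2 : (slice (G := bc G φ) x').left ≫ (projPair φ ≫ (snd G X).left) =
      bcProj G φ ≫ (slice (G := G) x).left ≫ (snd G X).left := by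
    simp only [projPair, Category.assoc, ← Over.comp_left, slice, lift_snd]
    rw [show bcProj (G ⊗ X) φ ≫ (snd G X).left =
      ((Over.pullback (Spec.map (CommRingCat.ofHom φ))).map (snd G X)).left ≫ bcProj X φ from
        (pullback.lift_fst _ _ _).symm]
    rw [← Over.comp_left_assoc, ← Over.comp_left_assoc, Category.assoc, Functor.Monoidal.μ_snd, lift_snd,
      Over.comp_left, Over.comp_left, Category.assoc, hx]
    show pullback.snd G.hom _ ≫ _ = pullback.fst G.hom _ ≫ G.hom ≫ x.left
    exact (pullback.condition_assoc _).symm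
  apply pullback.hom_ext
  · simp only [Category.assoc]; exact h1
  · simp only [Category.assoc]; exact h2

theorem proj_orbit (x : 𝟙_ _ ⟶ X) {L : Type u} [Field L] (φ : k →+* L)
    (x' : 𝟙_ (Over (Spec (CommRingCat.of L))) ⟶ bc X φ)
    (hx : x'.left ≫ bcProj X φ = Spec.map (CommRingCat.ofHom φ) ≫ x.left) (g : (bc G φ).left) :
    bcProj X φ (((abc a φ).orbitMap x').left g) = (a.orbitMap x).left (bcProj G φ g) := by
  rw [← Scheme.Hom.comp_apply, proj_orbit_hom a x φ x' hx, Scheme.Hom.comp_apply]

section Closed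

variable [IsAlgClosed k] (hΦ : Surjective (lift a.act (snd G X)).left)
include hΦ

theorem orbit_neutral_isMaxPt (x : 𝟙_ _ ⟶ X) :
    ∃ g, IsMaxPt g ∧ g ⤳ η[G].left (IsLocalRing.closedPoint k) ∧ IsMaxPt ((a.orbitMap x).left g) ∧
      ∀ d, IsMaxPt d → d ⤳ x.left (IsLocalRing.closedPoint k) → d = (a.orbitMap x).left g := by
  obtain ⟨g₀, hg₀, hg₀e⟩ := exists_isMaxPt (η[G].left (IsLocalRing.closedPoint k))
  obtain ⟨m, hm, hmx⟩ := exists_isMaxPt (x.left (IsLocalRing.closedPoint k))
  obtain ⟨h, hh⟩ := exists_orbit_eq a hΦ x m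
  obtain ⟨c, hc, hch⟩ := exists_isMaxPt h
  have hcm : (a.orbitMap x).left c = m := hm _ (hh ▸ hch.map (a.orbitMap x).left.continuous)
  obtain ⟨L, _, _, φ, g', hg'⟩ := exists_bc_point c
  obtain ⟨x', hx'⟩ := exists_bc_rational x φ
  obtain ⟨c₀, hc₀, hc₀g, hc₀c⟩ := IsMaxPt.exists_over (bcProj G φ).continuous (bcProj_generalizing φ)
    (a := g'.left (IsLocalRing.closedPoint L)) hc (by rw [hg'])
  -- the image of `c₀` is maximal
  have hmax : IsMaxPt (((abc a φ).orbitMap x').left c₀) := by
    have hproj : bcProj X φ (((abc a φ).orbitMap x').left c₀) = m := by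
      rw [proj_orbit a x φ x' hx', hc₀c, hcm]
    obtain ⟨d, hd, hd1, hd2⟩ := IsMaxPt.exists_over (bcProj X φ).continuous (bcProj_generalizing φ)
      (a := ((abc a φ).orbitMap x').left c₀) hm (by rw [hproj])
    -- a preimage of `d` over `c`
    obtain ⟨p, hp1, hp2⟩ : ∃ p, bcProj G φ p = c ∧ ((abc a φ).orbitMap x').left p = d := by
      have sq : IsPullback (bcProj G φ) ((abc a φ).orbitMap x').left (a.orbitMap x).left (bcProj X φ) := by
        refine IsPullback.of_bot ?_ (proj_orbit_hom a x φ x' hx').symm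
          (IsPullback.of_hasPullback X.hom (Spec.map (CommRingCat.ofHom φ)))
        rw [Over.w (a.orbitMap x)]
        have e : ((abc a φ).orbitMap x').left ≫ pullback.snd X.hom (Spec.map (CommRingCat.ofHom φ)) =
            pullback.snd G.hom (Spec.map (CommRingCat.ofHom φ)) := Over.w ((abc a φ).orbitMap x')
        rw [e]
        exact IsPullback.of_hasPullback G.hom (Spec.map (CommRingCat.ofHom φ))
      obtain ⟨z, hz1, hz2⟩ := Scheme.Pullback.exists_preimage_pullback (f := (a.orbitMap x).left) (g := bcProj X φ)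
        c d (by rw [hcm, hd2])
      refine ⟨sq.isoPullback.inv z, ?_, ?_⟩
      · rw [← Scheme.Hom.comp_apply, sq.isoPullback_inv_fst]; exact hz1
      · rw [← Scheme.Hom.comp_apply, sq.isoPullback_inv_snd]; exact hz2
    have hirr := isIrreducible_preimage_bcProj φ G c
    have hgen := hirr.closure.isGenericPoint_genericPoint isClosed_closure
    have h1 : hirr.closure.genericPoint = c₀ := hc₀ _ (hgen.specializes (subset_closure hc₀c))
    have h2 : c₀ ⤳ p := h1 ▸ hgen.specializes (subset_closure hp1)
    have h3 := h2.map ((abc a φ).orbitMap x').left.continuous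
    rw [hp2] at h3
    rw [hd _ h3]
    exact hd
  -- translate back to the unit
  let l : bc G φ ⟶ bc G φ := (toUnit (bc G φ) ≫ g'⁻¹) * 𝟙 (bc G φ)
  let l' : bc G φ ⟶ bc G φ := (toUnit (bc G φ) ≫ g') * 𝟙 (bc G φ)
  haveI : IsIso l := ⟨l', by simp [l, l', MonObj.comp_mul, GrpObj.comp_inv],
    by simp [l, l', MonObj.comp_mul, GrpObj.comp_inv]⟩
  haveI : IsIso l.left := (Over.forget _).map_isIso l
  have hlc : l.left c₀ ⤳ η[bc G φ].left (IsLocalRing.closedPoint L) := by
    have h1 : g' ≫ l = η[bc G φ] := by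
      simp only [l, MonObj.comp_mul, ← Category.assoc, toUnit_unique (g' ≫ toUnit _) (𝟙 _), Category.id_comp,
        Category.comp_id]
      rw [inv_mul_cancel, MonObj.one_eq_one]
    rw [← h1, Over.comp_left, Scheme.Hom.comp_apply]
    exact hc₀g.map l.left.continuous
  have hlmax : IsMaxPt (((abc a φ).orbitMap x').left (l.left c₀)) := by
    rw [← transIso_hom_apply (abc a φ) g'⁻¹ x' c₀]
    exact isMaxPt_homeo _ hmax
  have hl₀ : bcProj G φ (l.left c₀) = g₀ := by
    have h1 : bcProj G φ (l.left c₀) ⤳ η[G].left (IsLocalRing.closedPoint k) := by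
      have h2 := hlc.map (bcProj G φ).continuous
      have h3 : bcProj G φ (η[bc G φ].left (IsLocalRing.closedPoint L)) = η[G].left (IsLocalRing.closedPoint k) := by
        have e : η[bc G φ] = Functor.LaxMonoidal.ε (Over.pullback (Spec.map (CommRingCat.ofHom φ))) ≫
            (Over.pullback (Spec.map (CommRingCat.ofHom φ))).map η[G] := Functor.obj.η_def _
        rw [e, left_comp_apply, map_apply]
        exact congrArg η[G].left (@Subsingleton.elim ↥(Spec (CommRingCat.of k)) inferInstance _ _)
      rwa [h3] at h2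
    exact ((isMaxPt_homeo l.left hc₀).map (bcProj_generalizing φ)).eq uniComp hg₀ h1 hg₀e
  refine ⟨g₀, hg₀, hg₀e, ?_, fun d hd hdx => ?_⟩
  · rw [← hl₀, ← proj_orbit a x φ x' hx']
    exact hlmax.map (bcProj_generalizing φ)
  have hox : ∀ (z : (bc G φ).left), z ⤳ η[bc G φ].left (IsLocalRing.closedPoint L) →
      ((abc a φ).orbitMap x').left z ⤳ x'.left (IsLocalRing.closedPoint L) := fun z hz => by
    rw [← orbit_one (abc a φ) x']
    exact hz.map ((abc a φ).orbitMap x').left.continuous
  -- uniqueness: transport a maximal point above `x` over the maximal point `m`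
  have hxproj : bcProj X φ (x'.left (IsLocalRing.closedPoint L)) = x.left (IsLocalRing.closedPoint k) := by
    rw [← Scheme.Hom.comp_apply, hx', Scheme.Hom.comp_apply]
    exact congrArg x.left (@Subsingleton.elim ↥(Spec (CommRingCat.of k)) inferInstance _ _)
  obtain ⟨d', hd', hd'x, hd'p⟩ := IsMaxPt.exists_over (bcProj X φ).continuous (bcProj_generalizing φ)
    (a := x'.left (IsLocalRing.closedPoint L)) hd (hxproj.symm ▸ hdx)
  let τ := transIso (abc a φ) g'
  have key : ∀ e : (bc X φ).left, IsMaxPt e → e ⤳ x'.left (IsLocalRing.closedPoint L) →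
      bcProj X φ (τ.hom.left e) = m := fun e he hex => by
    refine hm _ ?_
    have h1 := (hex.map τ.hom.left.continuous).map (bcProj X φ).continuous
    rw [← orbit_one (abc a φ) x', transIso_hom_apply, proj_orbit a x φ x' hx'] at h1
    have h2 : η[bc G φ] ≫ ((toUnit (bc G φ) ≫ g') * 𝟙 (bc G φ)) = g' := by
      simp only [MonObj.comp_mul, ← Category.assoc, toUnit_unique (η[bc G φ] ≫ toUnit _) (𝟙 _), Category.id_comp,
        Category.comp_id, MonObj.one_eq_one]
      rw [toUnit_unique ((1 : 𝟙_ _ ⟶ bc G φ) ≫ toUnit _) (𝟙 _), Category.id_comp]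
      exact _root_.mul_one g'
    rw [← left_comp_apply η[bc G φ], h2, hg', hcm] at h1
    exact h1
  have h3 : τ.hom.left d' = τ.hom.left (((abc a φ).orbitMap x').left (l.left c₀)) := by
    refine eq_of_proj_eq φ X (isMaxPt_homeo _ hd') (isMaxPt_homeo _ hlmax) ?_
    rw [key _ hd' hd'x, key _ hlmax (hox _ hlc)]
  rw [← hd'p, τ.hom.left.homeomorph.injective h3, proj_orbit a x φ x' hx', hl₀]

end Closed

end Groth.Agent.RedHomogTop
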