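import Groth.Agent.RedHomogTop.Basic
import Groth.Agent.SchTop.Maximal
import Groth.Agent.FpqcDescLib.Group

/-!
# Irreducible and connected components of homogeneous spaces over a field
-/

universe u

open CategoryTheory AlgebraicGeometry MonoidalCategory CartesianMonoidalCategory MonObj GrpObj
open Limits TopologicalSpace
open scoped CategoryTheory.Obj
open Groth.Agent.GrpSchLib

namespace Groth.Agent.RedHomogTop

set_option backward.isDefEq.respectTransparency.types false

variable {k : Type u} [Field k] {G X : Over (Spec (CommRingCat.of k))} [GrpObj G] (a : AlgGrp.Action G X)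
  {g : G.left} (hg : IsMaxPt g) (hge : g ⤳ η[G].left (IsLocalRing.closedPoint k))

theorem bcProj_one {L : Type u} [Field L] (φ : k →+* L) :
    bcProj G φ (η[bc G φ].left (IsLocalRing.closedPoint L)) = η[G].left (IsLocalRing.closedPoint k) := by
  have e : η[bc G φ] = Functor.LaxMonoidal.ε (Over.pullback (Spec.map (CommRingCat.ofHom φ))) ≫
      (Over.pullback (Spec.map (CommRingCat.ofHom φ))).map η[G] := Functor.obj.η_def _
  rw [e, left_comp_apply, map_apply]
  exact congrArg η[G].left (@Subsingleton.elim ↥(Spec (CommRingCat.of k)) inferInstance _ _)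

include hg hge in
theorem exists_bc_neutral {L : Type u} [Field L] (φ : k →+* L) :
    ∃ g' : (bc G φ).left, IsMaxPt g' ∧ g' ⤳ η[bc G φ].left (IsLocalRing.closedPoint L) ∧ bcProj G φ g' = g ∧
      ∀ z, g ⤳ bcProj G φ z → g' ⤳ z := by
  obtain ⟨g', hg', hg'e, hg'p⟩ := IsMaxPt.exists_over (bcProj G φ).continuous (bcProj_generalizing φ)
    (a := η[bc G φ].left (IsLocalRing.closedPoint L)) hg (by rw [bcProj_one]; exact hge)
  refine ⟨g', hg', hg'e, hg'p, fun z hz => ?_⟩
  obtain ⟨T, j, hj, hjr⟩ := exists_over_range_eq (closure {g}) isClosed_closure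
  have := geometricallyIrreducible_one hg hge j hjr
  let σ : Spec (CommRingCat.of L) ⟶ Spec (CommRingCat.of k) := Spec.map (CommRingCat.ofHom φ)
  have : GeometricallyIrreducible (pullback.snd T.hom σ) := inferInstance
  have : IrreducibleSpace ↥(pullback T.hom σ) :=
    GeometricallyIrreducible.irreducibleSpace (pullback.snd T.hom σ) (pullback.snd T.hom σ).isOpenMap
  let j' : bc T φ ⟶ bc G φ := (Over.pullback σ).map j
  have hr : Set.range j'.left = bcProj G φ ⁻¹' closure {g} := by
    have : j'.left = pullback.map _ _ _ _ j.left (𝟙 _) (𝟙 _) (by simp) (by simp) := by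
      apply pullback.hom_ext <;> simp [j', σ, pullback.map, pullback.lift_fst, pullback.lift_snd]
    rw [this, Scheme.Pullback.range_map, hjr]
    simp
  have hirr : IsIrreducible (bcProj G φ ⁻¹' closure {g}) := by
    have : IrreducibleSpace (bc T φ).left := ‹IrreducibleSpace ↥(pullback T.hom σ)›
    rw [← hr, ← Set.image_univ]
    exact (IrreducibleSpace.isIrreducible_univ _).image _ j'.left.continuous.continuousOn
  have hgen := hirr.closure.isGenericPoint_genericPoint isClosed_closure
  have h1 : hirr.closure.genericPoint = g' :=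
    hg' _ (hgen.specializes (subset_closure (show bcProj G φ g' ∈ closure {g} from hg'p ▸ subset_closure rfl)))
  exact h1 ▸ hgen.specializes (subset_closure (show bcProj G φ z ∈ closure {g} from hz.mem_closure))

variable (hΦ : Surjective (lift a.act (snd G X)).left)
include hΦ hg hge

theorem orbit_isMaxPt [IsAlgClosed k] (x : 𝟙_ _ ⟶ X) :
    IsMaxPt ((a.orbitMap x).left g) ∧
      ∀ d, IsMaxPt d → d ⤳ x.left (IsLocalRing.closedPoint k) → d = (a.orbitMap x).left g := by
  obtain ⟨g₀, h₁, h₂, h₃, h₄⟩ := orbit_neutral_isMaxPt a hΦ x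
  rw [hg.eq uniComp h₁ hge h₂]
  exact ⟨h₃, h₄⟩

/-- A point is moved to any maximal generalisation by the component of the unit. -/
theorem exists_pair_to_max {x m : X.left} (hm : IsMaxPt m) (hmx : m ⤳ x) :
    ∃ p : (G ⊗ X).left, (fst G X).left p ∈ closure {g} ∧ (snd G X).left p = x ∧ a.act.left p = m := by
  obtain ⟨L, _, _, φ, x', hx'⟩ := exists_bc_point (G := X) x
  obtain ⟨g', hg', hg'e, hg'p, -⟩ := exists_bc_neutral hg hge φ
  obtain ⟨m', hm', hm'x, hm'p⟩ := IsMaxPt.exists_over (bcProj X φ).continuous (bcProj_generalizing φ)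
    (a := x'.left (IsLocalRing.closedPoint L)) hm (hx'.symm ▸ hmx)
  refine ⟨projPair φ ((slice (G := bc G φ) x').left g'), ?_, ?_, ?_⟩
  · rw [fst_projPair, fst_slice, hg'p]
    exact subset_closure rfl
  · rw [snd_projPair, snd_slice, hx']
  · rw [act_projPair, act_slice,
      ← (orbit_isMaxPt (abc a φ) hg' hg'e (surjective_bc a hΦ φ) x').2 m' hm' hm'x, hm'p]

/-- Points moved into one another by the component of the unit have the same maximal generalisations. -/
theorem specializes_act {p : (G ⊗ X).left} (hp : (fst G X).left p ∈ closure {g}) {m : X.left} (hm : IsMaxPt m)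
    (h : m ⤳ (snd G X).left p) : m ⤳ a.act.left p := by
  obtain ⟨L, _, _, φ, y', hy'⟩ := exists_bc_point (G := G ⊗ X) p
  let F := Over.pullback (Spec.map (CommRingCat.ofHom φ))
  let h' : 𝟙_ _ ⟶ bc G φ := y' ≫ F.map (fst G X)
  let x' : 𝟙_ _ ⟶ bc X φ := y' ≫ F.map (snd G X)
  have hh : bcProj G φ (h'.left (IsLocalRing.closedPoint L)) = (fst G X).left p := by
    rw [left_comp_apply, map_apply, hy']
  have hx : bcProj X φ (x'.left (IsLocalRing.closedPoint L)) = (snd G X).left p := by
    rw [left_comp_apply, map_apply, hy']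
  have ey : y' ≫ F.map a.act = h' ≫ (abc a φ).orbitMap x' := by
    have e : lift h' x' ≫ Functor.LaxMonoidal.μ F G X = y' := by
      rw [← cancel_mono (Functor.Monoidal.μIso F G X).inv, Category.assoc]
      simp only [Functor.Monoidal.μIso_inv, Functor.Monoidal.μ_δ]
      erw [Category.comp_id]
      apply CartesianMonoidalCategory.hom_ext
      · rw [lift_fst, Category.assoc]; erw [Functor.OplaxMonoidal.δ_fst]
      · rw [lift_snd, Category.assoc]; erw [Functor.OplaxMonoidal.δ_snd]
    rw [AlgGrp.Action.orbitMap, ← Category.assoc, comp_lift, Category.comp_id, ← Category.assoc,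
      toUnit_unique (h' ≫ toUnit _) (𝟙 _), Category.id_comp, AlgGrp.Action.bc_act, ← Category.assoc, e]
  have hact : bcProj X φ (((abc a φ).orbitMap x').left (h'.left (IsLocalRing.closedPoint L))) = a.act.left p := by
    rw [← left_comp_apply h', ← ey, left_comp_apply, map_apply, hy']
  obtain ⟨g', hg', hg'e, -, hg'z⟩ := exists_bc_neutral hg hge φ
  obtain ⟨m', hm', hm'x, hm'p⟩ := IsMaxPt.exists_over (bcProj X φ).continuous (bcProj_generalizing φ)
    (a := x'.left (IsLocalRing.closedPoint L)) hm (hx.symm ▸ h)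
  rw [← hact, ← hm'p, (orbit_isMaxPt (abc a φ) hg' hg'e (surjective_bc a hΦ φ) x').2 m' hm' hm'x]
  exact ((hg'z _ (hh.symm ▸ specializes_iff_mem_closure.mpr hp)).map
    ((abc a φ).orbitMap x').left.continuous).map (bcProj X φ).continuous

/-- Every point has a single maximal generalisation. -/
theorem uniComp : UniComp X.left := by
  intro x b c hb hc
  obtain ⟨L, _, _, φ, x', hx'⟩ := exists_bc_point (G := X) x
  obtain ⟨g', hg', hg'e, -, -⟩ := exists_bc_neutral hg hge φ
  rw [← hx'] at hb hc
  obtain ⟨b', hb', hbb⟩ := bcProj_generalizing φ hb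
  obtain ⟨c', hc', hcc⟩ := bcProj_generalizing φ hc
  obtain ⟨d, hd, hdb⟩ := exists_isMaxPt b'
  obtain ⟨d', hd', hdc⟩ := exists_isMaxPt c'
  have h := orbit_isMaxPt (abc a φ) hg' hg'e (surjective_bc a hΦ φ) x'
  have e : d = d' := (h.2 d hd (hdb.trans hb')).trans (h.2 d' hd' (hdc.trans hc')).symm
  exact ⟨bcProj X φ d, hbb ▸ hdb.map (bcProj X φ).continuous, hcc ▸ (e ▸ hdc).map (bcProj X φ).continuous⟩

theorem hull_eq_image {V : Set X.left} (hV : IsOpen V) :
    hull V = a.act.left '' {z | (fst G X).left z ∈ closure {g} ∧ (snd G X).left z ∈ V} := by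
  refine Set.Subset.antisymm ?_ ?_
  · rintro x ⟨c, hcV, hcx⟩
    obtain ⟨m, hm, hmc⟩ := exists_isMaxPt c
    obtain ⟨p, hp1, hp2, hp3⟩ := exists_pair_to_max a hg hge hΦ hm (hmc.trans hcx)
    let r : G ⊗ X ⟶ G ⊗ X := lift (fst G X ≫ GrpObj.inv) a.act
    refine ⟨r.left p, ⟨?_, ?_⟩, ?_⟩
    · rw [← left_comp_apply, lift_fst, left_comp_apply]
      exact inv_mem_closure hg hge hp1
    · rw [← left_comp_apply, lift_snd, hp3]
      exact hmc.mem_open hV hcV
    · have e : r ≫ a.act = snd G X := by
        have h := act_mul a (fst G X)⁻¹ (fst G X) (snd G X)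
        rw [lift_fst_snd, Category.id_comp, inv_mul_cancel, act_one] at h
        rw [← h, Hom.inv_def]
      rw [← left_comp_apply, e, hp2]
  · rintro _ ⟨p, ⟨hp1, hp2⟩, rfl⟩
    obtain ⟨m, hm, hmp⟩ := exists_isMaxPt ((snd G X).left p)
    exact ⟨m, hmp.mem_open hV hp2, specializes_act a hg hge hΦ hp1 hm hmp⟩

theorem isOpen_hull {V : Set X.left} (hV : IsOpen V) : IsOpen (hull V) := by
  rw [hull_eq_image a hg hge hΦ hV]
  obtain ⟨T, j, hj, hjr⟩ := exists_over_range_eq (closure {g}) isClosed_closure
  let sh : T ⊗ X ≅ T ⊗ X :=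
    { hom := lift (fst T X) (lift (fst T X ≫ j) (snd T X) ≫ a.act)
      inv := lift (fst T X) (lift (fst T X ≫ j)⁻¹ (snd T X) ≫ a.act)
      hom_inv_id := by
        apply CartesianMonoidalCategory.hom_ext
        · simp
        · rw [Category.assoc, lift_snd, ← Category.assoc, comp_lift, GrpObj.comp_inv, ← Category.assoc, lift_fst,
            lift_snd, Category.id_comp, act_mul, inv_mul_cancel, act_one]
      inv_hom_id := by
        apply CartesianMonoidalCategory.hom_ext
        · simp
        · rw [Category.assoc, lift_snd, ← Category.assoc, comp_lift, ← Category.assoc, lift_fst, lift_snd,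
            Category.id_comp, act_mul, mul_inv_cancel, act_one] }
  have he : j ▷ X ≫ a.act = sh.hom ≫ snd T X := by
    rw [show sh.hom ≫ snd T X = lift (fst T X ≫ j) (snd T X) ≫ a.act from lift_snd _ _]
    congr 1
  have : UniversallyOpen (j ▷ X ≫ a.act).left := by
    have : IsIso sh.hom.left := ((Over.forget _).mapIso sh).isIso_hom
    have : UniversallyOpen (snd T X).left := inferInstanceAs (UniversallyOpen (pullback.snd T.hom X.hom))
    rw [he, Over.comp_left]
    infer_instance
  have hr : Set.range (j ▷ X).left = (fst G X).left ⁻¹' closure {g} := by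
    ext z
    constructor
    · rintro ⟨w, rfl⟩
      show (fst G X).left ((j ▷ X).left w) ∈ closure {g}
      rw [← left_comp_apply, whiskerRight_fst, left_comp_apply, ← hjr]
      exact ⟨_, rfl⟩
    · intro hz
      obtain ⟨t, ht⟩ : (fst G X).left z ∈ Set.range j.left := hjr ▸ hz
      have sq : IsPullback (j ▷ X).left (fst T X).left (fst G X).left j.left :=
        (FpqcDescLib.isPullback_whiskerRight j X).map (Over.forget _)
      obtain ⟨w, hw1, -⟩ := Scheme.Pullback.exists_preimage_pullback (f := (fst G X).left) (g := j.left) z t ht.symm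
      refine ⟨sq.isoPullback.inv w, ?_⟩
      rw [← Scheme.Hom.comp_apply, sq.isoPullback_inv_fst]
      exact hw1
  have : a.act.left '' {z | (fst G X).left z ∈ closure {g} ∧ (snd G X).left z ∈ V} =
      (j ▷ X ≫ a.act).left '' ((j ▷ X).left ⁻¹' ((snd G X).left ⁻¹' V)) := by
    rw [Over.comp_left]
    show _ = (fun w => a.act.left ((j ▷ X).left w)) '' _
    rw [← Set.image_image a.act.left (j ▷ X).left, Set.image_preimage_eq_range_inter, hr]
    rfl
  rw [this]
  exact (j ▷ X ≫ a.act).left.isOpenMap _ ((hV.preimage (snd G X).left.continuous).preimage (j ▷ X).left.continuous)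

omit hΦ hg hge in
theorem isClosed_hull {V : Set X.left} (hVo : IsOpen V)
    (hVc : ∀ U : X.left.Opens, IsAffineOpen U → IsCompact (V ∩ (U : Set X.left))) : IsClosed (hull V) := by
  refine isClosed_of_closure_subset fun x hx => ?_
  have hxV : x ∈ closure V :=
    closure_minimal (s := hull V) (fun y ⟨c, hc, hcy⟩ => hcy.mem_closed isClosed_closure (subset_closure hc))
      isClosed_closure hx
  obtain ⟨U, hU, hxU, -⟩ := exists_isAffineOpen_mem_and_subset (show x ∈ (⊤ : X.left.Opens) from trivial)
  let W : (Spec Γ(X.left, U)).Opens := ⟨hU.fromSpec ⁻¹' V, hVo.preimage hU.fromSpec.continuous⟩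
  have hW : IsCompact (W : Set (Spec Γ(X.left, U))) := by
    rw [hU.fromSpec.isOpenEmbedding.isInducing.isCompact_iff]
    show IsCompact (hU.fromSpec '' (hU.fromSpec ⁻¹' V))
    rw [Set.image_preimage_eq_inter_range, hU.range_fromSpec]
    exact hVc U hU
  obtain ⟨R, f, hf⟩ := isCompact_iff_exists.mp hW
  obtain ⟨ψ, rfl⟩ := Spec.map_surjective f
  obtain ⟨y, rfl⟩ : x ∈ Set.range hU.fromSpec := hU.range_fromSpec.symm ▸ hxU
  have hy : y ∈ closure (Set.range (Spec.map ψ)) := by
    rw [hf]
    show y ∈ closure (hU.fromSpec ⁻¹' V)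
    rw [← hU.fromSpec.isOpenEmbedding.isOpenMap.preimage_closure_eq_closure_preimage
      hU.fromSpec.continuous]
    exact hxV
  obtain ⟨q, hq⟩ := SchTop.exists_specializes_of_mem_closure_range ψ y hy
  exact ⟨hU.fromSpec (Spec.map ψ q), (hf.subset ⟨q, rfl⟩ : Spec.map ψ q ∈ (W : Set (Spec Γ(X.left, U)))),
    hq.map hU.fromSpec.continuous⟩

theorem connectedComponent_eq [QuasiSeparatedSpace X.left] {m x : X.left} (hm : IsMaxPt m) (hmx : m ⤳ x) :
    connectedComponent x = closure {m} := by
  refine subset_antisymm (fun y hy => ?_)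
    (isIrreducible_singleton.closure.isPreirreducible.isPreconnected.subset_connectedComponent hmx.mem_closure)
  by_contra hym
  obtain ⟨my, hmy, hmyy⟩ := exists_isMaxPt y
  have hU := uniComp a hg hge hΦ
  have hx : x ∉ closure {my} := fun h => hym <| by
    rw [hm.eq hU hmy hmx (specializes_iff_mem_closure.mpr h)]
    exact hmyy.mem_closure
  obtain ⟨V, hV, hxV, hVs⟩ := exists_isAffineOpen_mem_and_subset
    (U := (⟨(closure {my})ᶜ, isClosed_closure.isOpen_compl⟩ : X.left.Opens)) hx
  have hclopen : IsClopen (hull (V : Set X.left)) :=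
    ⟨isClosed_hull (X := X) V.2 (fun U hU' => QuasiSeparatedSpace.inter_isCompact _ _ V.2 hV.isCompact U.2
      hU'.isCompact), isOpen_hull a hg hge hΦ V.2⟩
  obtain ⟨d, hdV, hd⟩ := hclopen.connectedComponent_subset ⟨_, hxV, specializes_rfl⟩ hy
  exact hVs hdV (hmy.specializes hU hmyy hd).mem_closure

theorem compactSpace [IrreducibleSpace X.left] : CompactSpace X.left := by
  have hgen := genericPoint_spec X.left
  have hξ : IsMaxPt (genericPoint X.left) := fun d hd => ((hgen.specializes trivial).antisymm hd).eq.symm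
  obtain ⟨U, hU, hξU, -⟩ := exists_isAffineOpen_mem_and_subset
    (show genericPoint X.left ∈ (⊤ : X.left.Opens) from trivial)
  have huniv : hull (U : Set X.left) = Set.univ :=
    Set.eq_univ_of_forall fun x => ⟨_, hξU, hgen.specializes trivial⟩
  have hC : IsCompact (closure ({g} : Set G.left)) := isCompact_closure_one hg hge
  obtain ⟨T, j, hj, hjr⟩ := exists_over_range_eq (closure {g}) isClosed_closure
  have : CompactSpace T.left := isCompact_univ_iff.mp
    (j.left.isClosedEmbedding.isInducing.isCompact_iff.mpr (by rw [Set.image_univ, hjr]; exact hC))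
  let j' : Over.mk (U.ι ≫ X.hom) ⟶ X := Over.homMk U.ι rfl
  have : IsAffine U.toScheme := hU
  have : IsAffineHom (U.ι ≫ X.hom) := isAffineHom_of_isAffine (U.ι ≫ X.hom)
  have : QuasiCompact T.hom := (quasiCompact_iff_compactSpace T.hom).mpr inferInstance
  have : CompactSpace (T ⊗ Over.mk (U.ι ≫ X.hom)).left :=
    inferInstanceAs (CompactSpace ↥(pullback T.hom (U.ι ≫ X.hom)))
  refine ⟨?_⟩
  have hh := hull_eq_image a hg hge hΦ (V := (U : Set X.left)) U.2
  rw [← huniv, hh]
  have he : {z : (G ⊗ X).left | (fst G X).left z ∈ closure {g} ∧ (snd G X).left z ∈ (U : Set X.left)} =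
      Set.range (j ⊗ₘ j').left := by
    have hj' : Set.range j'.left = (U : Set X.left) := Scheme.Opens.range_ι U
    rw [Over.tensorHom_left, ← hjr, ← hj']
    exact (Scheme.Pullback.range_map _ _ _ _ _ _ _ _ _).symm
  rw [he]
  exact (isCompact_range (j ⊗ₘ j').left.continuous).image a.act.left.continuous

theorem exists_isMaxPt_over_rational (x : 𝟙_ _ ⟶ X) {m : X.left} (hm : IsMaxPt m)
    (hmx : m ⤳ x.left (IsLocalRing.closedPoint k)) : (a.orbitMap x).left g = m := by
  obtain ⟨φ, hL⟩ : ∃ φ : k →+* AlgebraicClosure k, φ = algebraMap k _ := ⟨_, rfl⟩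
  obtain ⟨x', hx'⟩ := exists_bc_rational x φ
  obtain ⟨g', hg', hg'e, hg'p, -⟩ := exists_bc_neutral hg hge φ
  have hxproj : bcProj X φ (x'.left (IsLocalRing.closedPoint _)) = x.left (IsLocalRing.closedPoint k) := by
    rw [← Scheme.Hom.comp_apply, hx', Scheme.Hom.comp_apply]
    exact congrArg x.left (@Subsingleton.elim ↥(Spec (CommRingCat.of k)) inferInstance _ _)
  obtain ⟨m', hm', hm'x, hm'p⟩ := IsMaxPt.exists_over (bcProj X φ).continuous (bcProj_generalizing φ)
    (a := x'.left (IsLocalRing.closedPoint _)) hm (hxproj.symm ▸ hmx)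
  rw [← hm'p, (orbit_isMaxPt (abc a φ) hg' hg'e (surjective_bc a hΦ φ) x').2 m' hm' hm'x,
    proj_orbit a x φ x' hx', hg'p]

/-- The fibre of a base change over the maximal generalisation of a rational point has irreducible closure. -/
theorem isIrreducible_preimage_component (x : 𝟙_ _ ⟶ X) {m : X.left} (hm : IsMaxPt m)
    (hmx : m ⤳ x.left (IsLocalRing.closedPoint k)) {L : Type u} [Field L] (φ : k →+* L) :
    IsIrreducible (bcProj X φ ⁻¹' closure {m}) := by
  obtain ⟨x', hx'⟩ := exists_bc_rational x φ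
  obtain ⟨g', hg', hg'e, hg'p, hg'z⟩ := exists_bc_neutral hg hge φ
  have hproj : bcProj X φ (((abc a φ).orbitMap x').left g') = m := by
    rw [proj_orbit a x φ x' hx', hg'p, exists_isMaxPt_over_rational a hg hge hΦ x hm hmx]
  suffices he : bcProj X φ ⁻¹' closure {m} = closure {((abc a φ).orbitMap x').left g'} by
    rw [he]; exact isIrreducible_singleton.closure
  refine Set.Subset.antisymm (fun z hz => ?_) ?_
  · obtain ⟨z', hz', hz'm⟩ := bcProj_generalizing φ (specializes_iff_mem_closure.mpr hz)
    refine specializes_iff_mem_closure.mp (Specializes.trans ?_ hz')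
    have sq : IsPullback (bcProj G φ) ((abc a φ).orbitMap x').left (a.orbitMap x).left (bcProj X φ) := by
      refine IsPullback.of_bot ?_ (proj_orbit_hom a x φ x' hx').symm
        (IsPullback.of_hasPullback X.hom (Spec.map (CommRingCat.ofHom φ)))
      rw [Over.w (a.orbitMap x)]
      have e : ((abc a φ).orbitMap x').left ≫ pullback.snd X.hom (Spec.map (CommRingCat.ofHom φ)) =
          pullback.snd G.hom (Spec.map (CommRingCat.ofHom φ)) := Over.w ((abc a φ).orbitMap x')
      rw [e]
      exact IsPullback.of_hasPullback G.hom (Spec.map (CommRingCat.ofHom φ))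
    obtain ⟨w, hw1, hw2⟩ := Scheme.Pullback.exists_preimage_pullback (f := (a.orbitMap x).left) (g := bcProj X φ)
      g z' (by rw [exists_isMaxPt_over_rational a hg hge hΦ x hm hmx, hz'm])
    have h1 : bcProj G φ (sq.isoPullback.inv w) = g := by
      rw [← Scheme.Hom.comp_apply, sq.isoPullback_inv_fst]; exact hw1
    have h2 : ((abc a φ).orbitMap x').left (sq.isoPullback.inv w) = z' := by
      rw [← Scheme.Hom.comp_apply, sq.isoPullback_inv_snd]; exact hw2
    rw [← h2]
    exact (hg'z _ (specializes_of_eq h1.symm)).map ((abc a φ).orbitMap x').left.continuous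
  · refine closure_minimal (Set.singleton_subset_iff.mpr ?_) (isClosed_closure.preimage (bcProj X φ).continuous)
    show bcProj X φ _ ∈ closure {m}
    rw [hproj]
    exact subset_closure rfl

/-- The component of a rational point is its orbit under the component of the unit. -/
theorem orbit_image_closure (x : 𝟙_ _ ⟶ X) {m : X.left} (hm : IsMaxPt m)
    (hmx : m ⤳ x.left (IsLocalRing.closedPoint k)) :
    (a.orbitMap x).left '' closure {g} = closure {m} := by
  refine Set.Subset.antisymm ?_ fun y hy => ?_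
  · rw [← exists_isMaxPt_over_rational a hg hge hΦ x hm hmx, Set.image_subset_iff]
    intro z hz
    exact ((specializes_iff_mem_closure.mpr hz).map (a.orbitMap x).left.continuous).mem_closure
  obtain ⟨p, hp1, hp2, hp3⟩ := exists_pair_to_max a hg hge hΦ hm (specializes_iff_mem_closure.mpr hy)
  obtain ⟨w, hw1, hw2⟩ := Scheme.Pullback.exists_preimage_pullback (f := (a.orbitMap x).left) (g := a.act.left)
    g p (by rw [exists_isMaxPt_over_rational a hg hge hΦ x hm hmx, hp3])
  let R : Over (Spec (CommRingCat.of k)) :=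
    Over.mk (pullback.fst (a.orbitMap x).left a.act.left ≫ G.hom)
  let r₁ : R ⟶ G := Over.homMk (pullback.fst _ _) rfl
  let r₂ : R ⟶ G ⊗ X := Over.homMk (pullback.snd _ _) (by
    rw [← Over.w a.act, ← pullback.condition_assoc, Over.w (a.orbitMap x)]
    rfl)
  have e : r₁ ≫ a.orbitMap x = r₂ ≫ a.act := Over.OverMorphism.ext pullback.condition
  let h : R ⟶ G := (r₂ ≫ fst G X)⁻¹ * r₁
  have e' : h ≫ a.orbitMap x = r₂ ≫ snd G X := by
    have e1 : ∀ t : R ⟶ G, t ≫ a.orbitMap x = lift t (toUnit R ≫ x) ≫ a.act := fun t => by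
      rw [AlgGrp.Action.orbitMap, ← Category.assoc, comp_lift, Category.comp_id, ← Category.assoc,
        toUnit_unique (t ≫ toUnit G) (toUnit R)]
    rw [e1, ← act_mul, ← e1, e]
    have h := act_mul a (r₂ ≫ fst G X)⁻¹ (r₂ ≫ fst G X) (r₂ ≫ snd G X)
    rw [← comp_lift, lift_fst_snd, Category.comp_id, inv_mul_cancel, act_one] at h
    exact h
  refine ⟨h.left w, ?_, ?_⟩
  · have hh : h = lift (r₂ ≫ fst G X ≫ GrpObj.inv) r₁ ≫ μ[G] := by
      show (r₂ ≫ fst G X)⁻¹ * r₁ = _
      rw [Hom.mul_def, Hom.inv_def, Category.assoc]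
    rw [hh, left_comp_apply]
    refine mul_mem_closure hg hge ⟨?_, ?_⟩
    · rw [Set.mem_preimage, ← left_comp_apply, lift_fst, left_comp_apply, left_comp_apply]
      refine inv_mem_closure hg hge ?_
      show (fst G X).left (pullback.snd (a.orbitMap x).left a.act.left w) ∈ _
      rw [hw2]; exact hp1
    · rw [Set.mem_preimage, ← left_comp_apply, lift_snd]
      show pullback.fst (a.orbitMap x).left a.act.left w ∈ _
      rw [hw1]; exact subset_closure rfl
  · rw [← left_comp_apply, e', left_comp_apply]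
    show (snd G X).left (pullback.snd (a.orbitMap x).left a.act.left w) = y
    rw [hw2, hp2]

end Groth.Agent.RedHomogTop
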